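import Cfsg.Agent.H721.SR.Orth
import Cfsg.Prelude.Def_Classical

/-!
# TEAM SR, task SR-PSP1: `PSp_{2m}(q)`, `q ≡ 1 mod 4`

* `sr_psp_of` : if every isometry `g` of an alternating form is inverted by an involution `h` with
  `B (h x) (h y) = - B x y` and `i² = -1` in `F`, every element of `PSp m F` is strongly real;
* `rr_psp_of` : assembly of the rows of `Cfsg.IsPSp`.
-/

set_option autoImplicit false

namespace Cfsg.Agent.H396.SR

open Cfsg.Agent.H721.SR Matrix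

section

variable {F : Type*} [Field F]

/-- the standard alternating form -/
noncomputable def spB (m : ℕ) (F : Type*) [Field F] :
    ((Fin m ⊕ Fin m) → F) →ₗ[F] ((Fin m ⊕ Fin m) → F) →ₗ[F] F :=
  Matrix.toLinearMap₂' F (Matrix.J (Fin m) F)

theorem spB_apply {m : ℕ} (x y : (Fin m ⊕ Fin m) → F) :
    spB m F x y = x ⬝ᵥ (Matrix.J (Fin m) F *ᵥ y) := by
  rw [spB, Matrix.toLinearMap₂'_apply']

/-- the linear equivalence of a symplectic matrix -/
noncomputable def spG {m : ℕ} (A : Matrix.symplecticGroup (Fin m) F) :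
    ((Fin m ⊕ Fin m) → F) ≃ₗ[F] ((Fin m ⊕ Fin m) → F) :=
  LinearEquiv.ofLinearMap
    (Matrix.toLin' (A : Matrix (Fin m ⊕ Fin m) (Fin m ⊕ Fin m) F))
    (Matrix.toLin' ((A⁻¹ : Matrix.symplecticGroup (Fin m) F) : Matrix (Fin m ⊕ Fin m) (Fin m ⊕ Fin m) F))
    (by rw [← Matrix.toLin'_mul, ← Submonoid.coe_mul, mul_inv_cancel, Submonoid.coe_one, Matrix.toLin'_one])
    (by rw [← Matrix.toLin'_mul, ← Submonoid.coe_mul, inv_mul_cancel, Submonoid.coe_one, Matrix.toLin'_one])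

theorem spG_apply {m : ℕ} (A : Matrix.symplecticGroup (Fin m) F) (x : (Fin m ⊕ Fin m) → F) :
    spG A x = (A : Matrix (Fin m ⊕ Fin m) (Fin m ⊕ Fin m) F) *ᵥ x := by
  simp [spG]

theorem spG_inv_apply {m : ℕ} (A : Matrix.symplecticGroup (Fin m) F) (x : (Fin m ⊕ Fin m) → F) :
    (spG A)⁻¹ x = ((A⁻¹ : Matrix.symplecticGroup (Fin m) F) : Matrix (Fin m ⊕ Fin m) (Fin m ⊕ Fin m) F) *ᵥ x := by
  change (spG A).symm x = _
  simp [spG]

theorem mul_form {m : ℕ} (A : Matrix (Fin m ⊕ Fin m) (Fin m ⊕ Fin m) F) (x y : (Fin m ⊕ Fin m) → F) :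
    spB m F (A *ᵥ x) (A *ᵥ y) = x ⬝ᵥ ((Aᵀ * Matrix.J (Fin m) F * A) *ᵥ y) := by
  rw [spB_apply, Matrix.mul_assoc, ← Matrix.mulVec_mulVec, ← Matrix.mulVec_mulVec, Matrix.dotProduct_mulVec x,
    Matrix.vecMul_transpose]

theorem form_ext {m : ℕ} {A B : Matrix (Fin m ⊕ Fin m) (Fin m ⊕ Fin m) F}
    (h : ∀ x y : (Fin m ⊕ Fin m) → F, x ⬝ᵥ (A *ᵥ y) = x ⬝ᵥ (B *ᵥ y)) : A = B := by
  ext i j
  have := h (Pi.single i 1) (Pi.single j 1)
  simpa using this

theorem mulVec_ext {m : ℕ} {A B : Matrix (Fin m ⊕ Fin m) (Fin m ⊕ Fin m) F}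
    (h : ∀ y : (Fin m ⊕ Fin m) → F, A *ᵥ y = B *ᵥ y) : A = B :=
  form_ext fun x y => by rw [h y]

theorem spB_neg {m : ℕ} (x y : (Fin m ⊕ Fin m) → F) : spB m F x y = -1 * spB m F y x := by
  rw [spB_apply, spB_apply, Matrix.dotProduct_mulVec, ← Matrix.mulVec_transpose, Matrix.J_transpose,
    Matrix.neg_mulVec, neg_dotProduct, dotProduct_comm, neg_one_mul]

theorem spB_nondeg {m : ℕ} (x : (Fin m ⊕ Fin m) → F) (h : ∀ y, spB m F x y = 0) : x = 0 := by
  have h1 : ∀ y, x ⬝ᵥ y = 0 := by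
    intro y
    have := h (-(Matrix.J (Fin m) F *ᵥ y))
    rw [spB_apply, Matrix.mulVec_neg, Matrix.mulVec_mulVec, Matrix.J_squared, Matrix.neg_mulVec, Matrix.one_mulVec,
      neg_neg] at this
    exact this
  ext i
  simpa using h1 (Pi.single i 1)

theorem spSt {m : ℕ} (A : Matrix.symplecticGroup (Fin m) F) : St (spB m F) (-1) (spG A) where
  eps := Or.inr rfl
  symm := spB_neg
  nondeg := spB_nondeg
  isom x y := by
    rw [spG_apply, spG_apply, mul_form, SymplecticGroup.mem_iff'.1 A.2, spB_apply]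

/-- `PSp` with a square root of `-1`, from the vertical inverter of one isometry -/
theorem sr_sp_of {m : ℕ} {i : F} (hi : i * i = -1) (A : Matrix.symplecticGroup (Fin m) F)
    (hA : ∃ h : ((Fin m ⊕ Fin m) → F) ≃ₗ[F] ((Fin m ⊕ Fin m) → F), h * h = 1 ∧ h * spG A * h⁻¹ = (spG A)⁻¹ ∧
      ∀ x y, spB m F (h x) (h y) = -1 * spB m F x y) :
    SR (QuotientGroup.mk A : Cfsg.PSp m F) := by
  obtain ⟨h, h1, h2, h3⟩ := hA
  obtain ⟨H, hH'⟩ : ∃ H : Matrix (Fin m ⊕ Fin m) (Fin m ⊕ Fin m) F, ∀ x, H *ᵥ x = h x := by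
    refine ⟨LinearMap.toMatrix' (h : ((Fin m ⊕ Fin m) → F) →ₗ[F] ((Fin m ⊕ Fin m) → F)), fun x => ?_⟩
    rw [← Matrix.toLin'_apply, Matrix.toLin'_toMatrix']
    rfl
  have e1 : H * H = 1 := by
    apply mulVec_ext
    intro y
    rw [← Matrix.mulVec_mulVec, hH', hH', Matrix.one_mulVec]
    exact LinearEquiv.congr_fun h1 y
  have e2 : H * (A : Matrix (Fin m ⊕ Fin m) (Fin m ⊕ Fin m) F) =
      ((A⁻¹ : Matrix.symplecticGroup (Fin m) F) : Matrix (Fin m ⊕ Fin m) (Fin m ⊕ Fin m) F) * H := by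
    apply mulVec_ext
    intro y
    rw [← Matrix.mulVec_mulVec, ← Matrix.mulVec_mulVec, hH', hH', ← spG_apply, ← spG_inv_apply]
    have h4 : h * spG A = (spG A)⁻¹ * h := by rw [← h2]; group
    exact LinearEquiv.congr_fun h4 y
  have e3 : Hᵀ * Matrix.J (Fin m) F * H = - Matrix.J (Fin m) F := by
    apply form_ext
    intro x y
    rw [← mul_form, hH', hH', h3, spB_apply, Matrix.neg_mulVec, dotProduct_neg, neg_one_mul]
  have hX : i • H ∈ Matrix.symplecticGroup (Fin m) F := by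
    rw [SymplecticGroup.mem_iff', Matrix.transpose_smul, Matrix.smul_mul, Matrix.smul_mul, Matrix.mul_smul, smul_smul,
      hi, e3, neg_smul, one_smul, neg_neg]
  set X : Matrix.symplecticGroup (Fin m) F := ⟨i • H, hX⟩ with hXdef
  have hXc : (X : Matrix (Fin m ⊕ Fin m) (Fin m ⊕ Fin m) F) = i • H := rfl
  have e4 : ((X * X : Matrix.symplecticGroup (Fin m) F) : Matrix (Fin m ⊕ Fin m) (Fin m ⊕ Fin m) F) = -1 := by
    rw [Submonoid.coe_mul, hXc, Matrix.smul_mul, Matrix.mul_smul, smul_smul, hi, e1, neg_smul, one_smul]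
  have e5 : X * A = A⁻¹ * X := by
    apply Subtype.ext
    rw [Submonoid.coe_mul, Submonoid.coe_mul, hXc, Matrix.smul_mul, Matrix.mul_smul, e2]
  have e6 : X * X ∈ Subgroup.center (Matrix.symplecticGroup (Fin m) F) := by
    rw [Subgroup.mem_center_iff]
    generalize X * X = Z at e4 ⊢
    intro Y
    apply Subtype.ext
    rw [Submonoid.coe_mul, Submonoid.coe_mul, e4, Matrix.mul_neg, Matrix.neg_mul, Matrix.mul_one, Matrix.one_mul]
  refine ⟨QuotientGroup.mk X, ?_, ?_⟩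
  · rw [← QuotientGroup.mk_mul]
    exact (QuotientGroup.eq_one_iff _).2 e6
  · rw [← QuotientGroup.mk_mul, ← QuotientGroup.mk_inv, ← QuotientGroup.mk_mul, e5, mul_inv_cancel_right,
      QuotientGroup.mk_inv]

/-- the hypothesis provided by task SR-G2 (`isVert`): one field, all finite-dimensional spaces -/
def Vert (F : Type) [Field F] : Prop :=
  ∀ (V : Type) [AddCommGroup V] [Module F V] [FiniteDimensional F V] (B : V →ₗ[F] V →ₗ[F] F) (g : V ≃ₗ[F] V),
    St B (-1) g → ∃ h : V ≃ₗ[F] V, h * h = 1 ∧ h * g * h⁻¹ = g⁻¹ ∧ ∀ x y, B (h x) (h y) = -1 * B x y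

/-- **`q ≡ 1 mod 4`: all elements of `PSp_{2m}(q)` are strongly real** (modulo `Vert`) -/
theorem sr_psp_of {F : Type} [Field F] [Fintype F] {m : ℕ} (hF : Fintype.card F % 4 = 1) (hV : Vert F) :
    ∀ g : Cfsg.PSp m F, SR g := by
  intro g
  obtain ⟨A, rfl⟩ := QuotientGroup.mk_surjective g
  obtain ⟨i, hi⟩ : IsSquare (-1 : F) := FiniteField.isSquare_neg_one_iff.2 (by omega)
  exact sr_sp_of hi.symm A (hV _ (spB m F) (spG A) (spSt A))

/-- **the row `PSp`**, from the three pieces -/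
theorem rr_psp_of
    (h3 : ∀ (F : Type) [Field F] [Fintype F] (m : ℕ), 1 ≤ m → Fintype.card F % 4 = 3 → NRel (Cfsg.PSp m F))
    (h1 : ∀ (F : Type) [Field F] [Fintype F] (m : ℕ), Fintype.card F % 4 = 1 → ∀ g : Cfsg.PSp m F, SR g)
    (h2 : ∀ (F : Type) [Field F] [Fintype F] (m : ℕ), 1 ≤ m → Even (Fintype.card F) → ∀ g : Cfsg.PSp m F, SR g)
    {S : Type*} [Group S] (h : Cfsg.IsPSp S) : RR S := by
  obtain ⟨F, iF, iFt, m, hm, -, ⟨e⟩⟩ := h
  refine RR.congr e.symm ?_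
  rcases Nat.even_or_odd (Fintype.card F) with hc | hc
  · exact RR.of_sr (h2 F m (by omega) hc)
  · have h4 : Fintype.card F % 4 = 1 ∨ Fintype.card F % 4 = 3 := by
      obtain ⟨k, hk⟩ := hc
      omega
    rcases h4 with h4 | h4
    · exact RR.of_sr (h1 F m h4)
    · exact RR.of_nrel (h3 F m (by omega) h4)

end

end Cfsg.Agent.H396.SR
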